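import Mathlib
import Cfsg.Prelude.Def_KGroupFacts
import Cfsg.Agent.Prune
set_option linter.all false
prune_inst 0x7f00000000000000000000000000000000000000000000000000000000000000000000000000000000000000000000000000000000000000000000000000000000000000000000000000000000000000003fffffffffffffffffffffffffffbeffbdffffffff
open scoped Cfsg.Agent.FastGrp

/-!
# Large classes of `p'`-elements (helper726, for S4985, S4992)

* `BigClass p S`: some `x ≠ 1` of prime power order prime to `p` has more than `|S|_p ^ 2` conjugates;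
* `AbSylow p S`: the Sylow `p`-subgroups of `S` are abelian;
* `Rows`: what is needed about the simple groups whose multiplier has order divisible by `p` and whose
  Sylow `p`-subgroups are abelian.
-/

set_option autoImplicit false

namespace Cfsg.Agent.H726.Rel

open Cfsg

universe u

/-- Some `x ≠ 1` of prime power order `r ^ k`, `r ≠ p`, has more than `|S|_p ^ 2` conjugates. -/
def BigClass (p : ℕ) (S : Type*) [Group S] : Prop :=
  ∃ (x : S) (r k : ℕ), r.Prime ∧ r ≠ p ∧ x ≠ 1 ∧ orderOf x = r ^ k ∧
    (p ^ (Nat.card S).factorization p) ^ 2 *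
      Nat.card ↥(Subgroup.centralizer ({x} : Set S)) < Nat.card S

/-- The Sylow `p`-subgroups are abelian. -/
def AbSylow (p : ℕ) (S : Type*) [Group S] : Prop :=
  ∀ P : Sylow p S, ∀ a ∈ (P : Subgroup S), ∀ b ∈ (P : Subgroup S), a * b = b * a

theorem BigClass.congr {S T : Type*} [Group S] [Group T] (e : S ≃* T) {p : ℕ}
    (h : BigClass p S) : BigClass p T := by
  obtain ⟨x, r, k, h1, h2, h3, h4, h5⟩ := h
  refine ⟨e x, r, k, h1, h2, fun h => h3 (e.injective (h.trans (map_one e).symm)), ?_, ?_⟩
  · rw [MulEquiv.orderOf_eq]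
    exact h4
  · have hc : Nat.card ↥(Subgroup.centralizer ({e x} : Set T)) =
        Nat.card ↥(Subgroup.centralizer ({x} : Set S)) := by
      refine (Nat.card_congr (Equiv.subtypeEquiv e.toEquiv fun a => ?_)).symm
      rw [Subgroup.mem_centralizer_singleton_iff, Subgroup.mem_centralizer_singleton_iff]
      constructor
      · intro h
        show e a * e x = e x * e a
        rw [← map_mul, h, map_mul]
      · intro h
        have h5 : e (a * x) = e (x * a) := by rw [map_mul, map_mul]; exact h
        exact e.injective h5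
    rw [hc, ← Nat.card_congr e.toEquiv]
    exact h5

/-- A version with explicit numbers. -/
theorem BigClass.mk' {S : Type*} [Group S] {x : S} {p r k m c N : ℕ} (hr : r.Prime)
    (hrp : r ≠ p) (hx1 : x ≠ 1) (hx : orderOf x = r ^ k)
    (hm : p ^ (Nat.card S).factorization p ≤ m)
    (hc : Nat.card ↥(Subgroup.centralizer ({x} : Set S)) ≤ c) (hN : N ≤ Nat.card S)
    (h : m ^ 2 * c < N) : BigClass p S :=
  ⟨x, r, k, hr, hrp, hx1, hx,
    lt_of_le_of_lt (Nat.mul_le_mul (Nat.pow_le_pow_left hm 2) hc) (h.trans_le hN)⟩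

theorem AbSylow.congr {S T : Type*} [Group S] [Group T] (e : S ≃* T) {p : ℕ}
    (h : AbSylow p S) : AbSylow p T := by
  intro P a ha b hb
  have h1 := h (P.comapOfInjective e.toMonoidHom e.injective (by
    intro x _
    exact ⟨e.symm x, by simp⟩))
  have h2 := h1 (e.symm a) (by
    show e.symm a ∈ (P : Subgroup T).comap e.toMonoidHom
    rw [Subgroup.mem_comap]
    simpa using ha) (e.symm b) (by
    show e.symm b ∈ (P : Subgroup T).comap e.toMonoidHom
    rw [Subgroup.mem_comap]
    simpa using hb)
  have h3 := congrArg e h2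
  simpa using h3

/-- Commuting `p`-elements: if two elements of a `p`-subgroup do not commute, the Sylow
`p`-subgroups are not abelian. -/
theorem not_abSylow {S : Type*} [Group S] {p : ℕ} {Q : Subgroup S} (hQ : IsPGroup p Q) {a b : S}
    (ha : a ∈ Q) (hb : b ∈ Q) (hab : a * b ≠ b * a) : ¬ AbSylow p S := by
  intro h
  obtain ⟨P, hP⟩ := hQ.exists_le_sylow
  exact hab (h P a (hP ha) b (hP hb))

/-- The row for odd primes: `m` a multiple of the odd primes in the Schur multiplier. -/
def OddRow (S : Type*) [Group S] (m : ℕ) : Prop :=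
  ∀ p : ℕ, p.Prime → p ≠ 2 → p ∣ m → AbSylow p S → p = 3 ∧ BigClass 3 S

theorem OddRow.congr {S T : Type*} [Group S] [Group T] (e : S ≃* T) {m : ℕ}
    (h : OddRow S m) : OddRow T m := by
  intro p hp hp2 hpm hab
  obtain ⟨h1, h2⟩ := h p hp hp2 hpm (hab.congr e.symm)
  exact ⟨h1, h2.congr e⟩

/-- What is needed about the finite simple groups. -/
structure Rows : Prop where
  two : ∀ (S C : Type u) [Group S] [Finite S] [IsSimpleGroup S] [Group C] [Finite C]
    (σ : C →* S), ¬ IsMulCommutative S → IsStemExtension σ → 2 ∣ Nat.card σ.ker →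
    AbSylow 2 S → (∃ k, Nat.card σ.ker = 2 ^ k) ∧ BigClass 2 S
  odd : ∀ (S C : Type u) [Group S] [Finite S] [IsSimpleGroup S] [Group C] [Finite C]
    (σ : C →* S), ¬ IsMulCommutative S → IsStemExtension σ → OddRow S (Nat.card σ.ker)

end Cfsg.Agent.H726.Rel
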